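import Cfsg.Agent.H442.Pi.Cent
import Cfsg.Agent.H618.Pi.ExistsProd

/-!
# S4324, PI-D: elements with small centralisers (helper442)
-/

set_option autoImplicit false

namespace Cfsg.Agent.H442.Pi

open Subgroup Cfsg Cfsg.Agent.H216.Pi

universe u

theorem prodSt : ProdSt.{u} := by
  intro G _ _ ι _ h hconj hgen I a χ₁ h1 hI ha e he
  exact Cfsg.Agent.H618.Pi.exists_prod h hconj hgen I a χ₁ h1 hI ha he

theorem false_of_centralizer {K : Type u} [Group K] [Finite K] [IsSimpleGroup K] (_hK : ¬ IsMulCommutative K) {s m : ℕ}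
    (_hs : s.Prime) {x : MulAut K} (hx : (orderOf x).Prime) {g : MulAut K}
    (hg : g ∈ closure ({x} ∪ Set.range (MulAut.conj : K → MulAut K))) (hsg : s ∣ orderOf g)
    (hc : Nat.card ↥(centralizer ({g} : Set (MulAut K)) ⊓ closure ({x} ∪ Set.range (MulAut.conj : K → MulAut K)) :
      Subgroup (MulAut K)) ≤ m + 1) (h : FC s m x) : False :=
  false_of_centralizer_aux prodSt hx hg hsg hc h

theorem false_of_centralizer_inner {K : Type u} [Group K] [Finite K] [IsSimpleGroup K] (hK : ¬ IsMulCommutative K)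
    {s m : ℕ} (_hs : s.Prime) {u g : K} (hx : (orderOf u).Prime) (hsg : s ∣ orderOf g)
    (hc : Nat.card (centralizer ({g} : Set K)) ≤ m + 1) (h : FC s m (MulAut.conj u)) : False :=
  false_of_centralizer_inner_aux prodSt hK hx hsg hc h

end Cfsg.Agent.H442.Pi
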