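import Cfsg.Agent.H216.Pi.Lie
import Cfsg.Agent.H718.KGVBasic
import Cfsg.Agent.H614.Union
import Cfsg.Agent.CharactersDeep.SumRootsUnity

/-!
# S4324: elements with small centralisers (helper442)

* `card_nonvanishing_le` : the number of irreducible characters not vanishing at `g` is at most `|C_G(g)|`;
* `exists_isConj_prod` : if `|C_G(g)| ≤ m + 1` then a product of at most `m` members of a generating family which is
  permuted by the conjugations is conjugate to `g`;
* `closure_cj`, `exists_perm` : the conjugates of `x` under inner automorphisms generate `⟨Inn K, x⟩`, which permutes them;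
* `false_of_centralizer`, `false_of_centralizer_inner`.
-/

set_option autoImplicit false

namespace Cfsg.Agent.H442.Pi

open Subgroup Cfsg Cfsg.Agent.H216.Pi Cfsg.Agent.Characters.GaloisBasic
open scoped ComplexConjugate

universe u

/-! ### characters -/

section Chars

variable {G : Type u} [Group G] [Finite G]

/-- the product of the nonzero values is a nonzero integer -/
theorem exists_prod_int (g : G) [Fintype {χ : IrrCharacter G // (χ : G → ℂ) g ≠ 0}] :
    ∃ z : ℤ, ∏ χ : {χ : IrrCharacter G // (χ : G → ℂ) g ≠ 0}, (χ.1 : G → ℂ) g = z := by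
  have hint : IsIntegral ℤ (∏ χ : {χ : IrrCharacter G // (χ : G → ℂ) g ≠ 0}, (χ.1 : G → ℂ) g) :=
    IsIntegral.prod _ fun χ _ => H718.isIntegral_character
      (Cfsg.Agent.Characters.Core.isIrr_isCharacter χ.1.2) g
  refine exists_int_of_isIntegral hint (exists_rat_of_forall_ringEquiv hint.tower_top ?_)
  intro σ
  rw [map_prod]
  have hmem : ∀ χ : {χ : IrrCharacter G // (χ : G → ℂ) g ≠ 0}, (H718.galIrr σ χ.1 : G → ℂ) g ≠ 0 := by
    intro χ
    rw [H718.galIrr_apply]
    exact (map_ne_zero_iff _ σ.injective).2 χ.2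
  obtain ⟨f, hf⟩ : ∃ f : {χ : IrrCharacter G // (χ : G → ℂ) g ≠ 0} → {χ : IrrCharacter G // (χ : G → ℂ) g ≠ 0},
      ∀ χ, f χ = ⟨H718.galIrr σ χ.1, hmem χ⟩ := ⟨fun χ => ⟨H718.galIrr σ χ.1, hmem χ⟩, fun _ => rfl⟩
  have hbij : Function.Bijective f := by
    refine Finite.injective_iff_bijective.1 ?_
    intro χ ψ h
    rw [hf, hf] at h
    exact Subtype.ext (H718.galIrr_injective σ (congrArg Subtype.val h))
  have h1 := hbij.prod_comp (fun χ : {χ : IrrCharacter G // (χ : G → ℂ) g ≠ 0} => (χ.1 : G → ℂ) g)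
  rw [← h1]
  refine Finset.prod_congr rfl fun χ _ => ?_
  rw [hf]
  rfl

/-- **the number of nonvanishing characters is bounded by the centraliser** -/
theorem card_nonvanishing_le (g : G) :
    Nat.card {χ : IrrCharacter G // (χ : G → ℂ) g ≠ 0} ≤ Nat.card (centralizer ({g} : Set G)) := by
  classical
  have hfin : Finite (IrrCharacter G) := Cfsg.Agent.Characters.Core.finite_irr
  have := Fintype.ofFinite (IrrCharacter G)
  obtain ⟨z, hz⟩ := exists_prod_int g
  have hne : z ≠ 0 := by
    rintro rfl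
    rw [Int.cast_zero, Finset.prod_eq_zero_iff] at hz
    obtain ⟨χ, -, h⟩ := hz
    exact χ.2 h
  have h1 := (Cfsg.Agent.CharactersDeep.SumRootsUnity.card_le_sum_sq
    (fun χ : {χ : IrrCharacter G // (χ : G → ℂ) g ≠ 0} => ‖(χ.1 : G → ℂ) g‖) (fun _ => norm_nonneg _) (by
      rw [← norm_prod, hz, Complex.norm_intCast]
      exact_mod_cast Int.one_le_abs hne)).1
  have h2 := H718.sum_norm_sq_apply_le (X := G) g
  have h3 : ∑ χ : {χ : IrrCharacter G // (χ : G → ℂ) g ≠ 0}, ‖(χ.1 : G → ℂ) g‖ ^ 2 ≤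
      ∑ χ : IrrCharacter G, ‖(χ : G → ℂ) g‖ ^ 2 := by
    rw [← Finset.sum_subtype (Finset.univ.filter fun χ : IrrCharacter G => (χ : G → ℂ) g ≠ 0)
      (p := fun χ : IrrCharacter G => (χ : G → ℂ) g ≠ 0) (fun χ => by simp)
      (fun χ : IrrCharacter G => ‖(χ : G → ℂ) g‖ ^ 2)]
    exact Finset.sum_le_sum_of_subset_of_nonneg (Finset.filter_subset _ _) fun _ _ _ => by positivity
  have h4 : (Nat.card {χ : IrrCharacter G // (χ : G → ℂ) g ≠ 0} : ℝ) ≤
      Nat.card (centralizer ({g} : Set G)) := by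
    rw [Nat.card_eq_fintype_card]
    exact h1.trans (h3.trans h2)
  exact_mod_cast h4

/-- The statement of PI-C2. -/
def ProdSt : Prop := ∀ {G : Type u} [Group G] [Finite G] {ι : Type u} [Finite ι] (h : ι → G)
    (_ : ∀ g : G, ∃ σ : Equiv.Perm ι, ∀ i, h (σ i) = g * h i * g⁻¹) (_ : closure (Set.range h) = ⊤)
    (I : Finset (IrrCharacter G)) (a : IrrCharacter G → ℂ) (χ₁ : IrrCharacter G) (_ : ∀ g, (χ₁ : G → ℂ) g = 1)
    (_ : χ₁ ∈ I) (_ : a χ₁ ≠ 0) {e : ℕ} (_ : I.card ≤ e + 1),
    ∃ l : List ι, l.length ≤ e ∧ ∑ χ ∈ I, a χ * (χ : G → ℂ) (l.map h).prod ≠ 0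

theorem exists_isConj_prod (C2 : ProdSt.{u}) {ι : Type u} [Finite ι] (h : ι → G)
    (hconj : ∀ g : G, ∃ σ : Equiv.Perm ι, ∀ i, h (σ i) = g * h i * g⁻¹) (hgen : closure (Set.range h) = ⊤)
    {g : G} {m : ℕ} (hc : Nat.card (centralizer ({g} : Set G)) ≤ m + 1) :
    ∃ l : List ι, l.length ≤ m ∧ IsConj (l.map h).prod g := by
  classical
  have hfin : Finite (IrrCharacter G) := Cfsg.Agent.Characters.Core.finite_irr
  have := Fintype.ofFinite (IrrCharacter G)
  have := Fintype.ofFinite G
  obtain ⟨χ₁, hχ₁⟩ : ∃ χ₁ : IrrCharacter G, ∀ g, (χ₁ : G → ℂ) g = 1 :=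
    ⟨⟨1, Cfsg.Agent.Characters.Core.isIrr_one⟩, fun _ => rfl⟩
  have hcard : (Finset.univ.filter fun χ : IrrCharacter G => (χ : G → ℂ) g ≠ 0).card ≤ m + 1 := by
    refine le_trans ?_ hc
    refine le_trans (le_of_eq ?_) (card_nonvanishing_le g)
    rw [Nat.card_eq_fintype_card, Fintype.card_subtype]
  obtain ⟨l, hl, hne⟩ := C2 h hconj hgen (Finset.univ.filter fun χ : IrrCharacter G => (χ : G → ℂ) g ≠ 0)
    (fun χ => conj ((χ : G → ℂ) g)) χ₁ hχ₁
    (Finset.mem_filter.2 ⟨Finset.mem_univ _, by rw [hχ₁]; exact one_ne_zero⟩)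
    (by rw [hχ₁, map_one]; exact one_ne_zero) hcard
  refine ⟨l, hl, ?_⟩
  by_contra hcon
  apply hne
  have h1 := Cfsg.Agent.H614.sum_irr_conj_eq_zero hcon
  refine Eq.trans ?_ h1
  rw [Finset.sum_filter]
  refine Finset.sum_congr rfl fun χ _ => ?_
  split_ifs with h2
  · rw [mul_comm]
  · rw [not_not] at h2
    rw [h2, map_zero, mul_zero]

end Chars

/-! ### conjugates -/

section Conj

variable {K : Type u} [Group K] {x : MulAut K}

theorem cj_mem (k : K) : cj x k ∈ closure ({x} ∪ Set.range (MulAut.conj : K → MulAut K)) := by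
  have h1 : MulAut.conj k ∈ closure ({x} ∪ Set.range (MulAut.conj : K → MulAut K)) :=
    subset_closure (Or.inr ⟨k, rfl⟩)
  exact mul_mem (mul_mem h1 (subset_closure (Or.inl rfl))) (inv_mem h1)

theorem conj_conj (α : MulAut K) (k : K) : α * MulAut.conj k * α⁻¹ = MulAut.conj (α k) := by
  apply MulEquiv.ext
  intro a
  rw [MulAut.mul_apply, MulAut.mul_apply, MulAut.conj_apply, MulAut.conj_apply, map_mul, map_mul, map_inv]
  congr 2
  exact α.apply_symm_apply a

/-- the group `⟨Inn K, x⟩` permutes the conjugates of `x` -/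
theorem exists_perm {g : MulAut K} (hg : g ∈ closure ({x} ∪ Set.range (MulAut.conj : K → MulAut K))) :
    ∃ σ : Equiv.Perm K, ∀ k, cj x (σ k) = g * cj x k * g⁻¹ := by
  refine closure_induction (p := fun g _ => ∃ σ : Equiv.Perm K, ∀ k, cj x (σ k) = g * cj x k * g⁻¹)
    ?_ ?_ ?_ ?_ hg
  · rintro _ (rfl | ⟨a, rfl⟩)
    · rename_i y
      refine ⟨y.toEquiv, fun k => ?_⟩
      show MulAut.conj (y k) * y * (MulAut.conj (y k))⁻¹ = y * (MulAut.conj k * y * (MulAut.conj k)⁻¹) * y⁻¹
      rw [← conj_conj]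
      group
    · refine ⟨Equiv.mulLeft a, fun k => ?_⟩
      show cj x (a * k) = _
      rw [← cj_cj]
      rfl
  · exact ⟨1, fun k => by simp⟩
  · rintro a b _ _ ⟨σ, hσ⟩ ⟨τ, hτ⟩
    refine ⟨σ * τ, fun k => ?_⟩
    rw [Equiv.Perm.mul_apply, hσ, hτ]
    group
  · rintro a _ ⟨σ, hσ⟩
    refine ⟨σ.symm, fun k => ?_⟩
    have h1 := hσ (σ.symm k)
    rw [Equiv.apply_symm_apply] at h1
    rw [h1]
    group

/-- the conjugates of `x` generate `⟨Inn K, x⟩` -/
theorem closure_cj [IsSimpleGroup K] (hx : x ≠ 1) :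
    closure (Set.range (cj x)) = closure ({x} ∪ Set.range (MulAut.conj : K → MulAut K)) := by
  apply le_antisymm
  · rw [closure_le]
    rintro _ ⟨k, rfl⟩
    exact cj_mem k
  rw [closure_le]
  have hxm : x ∈ closure (Set.range (cj x)) := subset_closure ⟨1, cj_one x⟩
  -- the elements inducing members of `N`
  have hN : (comap (MulAut.conj : K →* MulAut K) (closure (Set.range (cj x)))).Normal := by
    refine ⟨fun n hn g => ?_⟩
    rw [mem_comap, map_mul, map_mul, map_inv]
    have h1 : (closure (Set.range (cj x))).map (MulAut.conj (MulAut.conj g)).toMonoidHom ≤ closure (Set.range (cj x)) := by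
      rw [MonoidHom.map_closure, closure_le]
      rintro _ ⟨_, ⟨k, rfl⟩, rfl⟩
      exact subset_closure ⟨g * k, (cj_cj x k g).symm⟩
    exact h1 ⟨_, mem_comap.1 hn, rfl⟩
  have htop : comap (MulAut.conj : K →* MulAut K) (closure (Set.range (cj x))) = ⊤ := by
    rcases hN.eq_bot_or_eq_top with h | h
    · exfalso
      apply hx
      apply MulEquiv.ext
      intro a
      have h1 : a⁻¹ * x a ∈ comap (MulAut.conj : K →* MulAut K) (closure (Set.range (cj x))) := by
        rw [mem_comap]
        have h2 : MulAut.conj (a⁻¹ * x a) = cj x a⁻¹ * x⁻¹ := by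
          have h3 := conj_conj x a
          rw [map_mul, ← h3, cj, map_inv, inv_inv]
          group
        rw [h2]
        exact mul_mem (subset_closure ⟨a⁻¹, rfl⟩) (inv_mem hxm)
      rw [h, mem_bot, inv_mul_eq_one] at h1
      exact h1.symm
    · exact h
  rintro _ (rfl | ⟨a, rfl⟩)
  · exact hxm
  · have h1 : a ∈ comap (MulAut.conj : K →* MulAut K) (closure (Set.range (cj x))) := by
      rw [htop]; exact mem_top a
    exact h1

/-- products of at most `m` conjugates -/
theorem inC_prod (l : List K) {m : ℕ} (hl : l.length ≤ m) : H216.Pi.InC m x (l.map (cj x)).prod := by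
  refine InC.mono hl ⟨fun i => l.get i, ?_⟩
  refine list_prod_mem ?_
  intro y hy
  obtain ⟨k, hk, rfl⟩ := List.mem_map.1 hy
  obtain ⟨i, hi⟩ := List.get_of_mem hk
  exact subset_closure ⟨i, by simp only [hi]⟩

end Conj

section Main

variable {K : Type u} [Group K] [Finite K] [IsSimpleGroup K] {s m : ℕ}

theorem false_of_centralizer_aux (C2 : ProdSt.{u}) {x : MulAut K} (hx : (orderOf x).Prime) {g : MulAut K}
    (hg : g ∈ closure ({x} ∪ Set.range (MulAut.conj : K → MulAut K))) (hsg : s ∣ orderOf g)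
    (hc : Nat.card ↥(centralizer ({g} : Set (MulAut K)) ⊓ closure ({x} ∪ Set.range (MulAut.conj : K → MulAut K)) :
      Subgroup (MulAut K)) ≤ m + 1) (h : FC s m x) : False := by
  obtain ⟨G, hG⟩ : ∃ G, G = closure ({x} ∪ Set.range (MulAut.conj : K → MulAut K)) := ⟨_, rfl⟩
  have hx1 : x ≠ 1 := by
    rintro rfl
    rw [orderOf_one] at hx
    exact Nat.not_prime_one hx
  have hperm : ∀ g : G, ∃ σ : Equiv.Perm K, ∀ k, cj x (σ k) = g * cj x k * g⁻¹ := fun g =>
    exists_perm (by rw [← hG]; exact g.2)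
  have hgen := closure_cj hx1
  have hmem : ∀ k, cj x k ∈ G := fun k => by rw [hG]; exact cj_mem k
  rw [← hG] at hg hc hgen
  have hcG : Nat.card (centralizer ({⟨g, hg⟩} : Set G)) ≤ m + 1 := by
    refine le_trans (le_of_eq ?_) hc
    refine Nat.card_congr
      { toFun := fun a => ⟨(a : G), mem_centralizer_singleton_iff.2
            (congrArg Subtype.val (mem_centralizer_singleton_iff.1 a.2)), (a : G).2⟩
        invFun := fun a => ⟨⟨a, a.2.2⟩, mem_centralizer_singleton_iff.2
            (Subtype.ext (mem_centralizer_singleton_iff.1 a.2.1))⟩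
        left_inv := fun _ => rfl
        right_inv := fun _ => rfl }
  obtain ⟨l, hl, hconj⟩ := exists_isConj_prod C2 (G := G) (fun k : K => (⟨cj x k, hmem k⟩ : G))
    (fun g => by
      obtain ⟨σ, hσ⟩ := hperm g
      exact ⟨σ, fun k => Subtype.ext (hσ k)⟩)
    (by
      apply map_injective G.subtype_injective
      rw [MonoidHom.map_closure, ← Set.range_comp, ← MonoidHom.range_eq_map, range_subtype]
      exact hgen) hcG
  have h1 : ((l.map (fun k : K => (⟨cj x k, hmem k⟩ : G))).prod : G).1 = (l.map (cj x)).prod := by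
    rw [← Subgroup.coe_subtype, map_list_prod, List.map_map]
    rfl
  have h2 : orderOf ((l.map (fun k : K => (⟨cj x k, hmem k⟩ : G))).prod : G).1 = orderOf g := by
    obtain ⟨c, hc'⟩ := isConj_iff.1 hconj
    have h3 : g = MulAut.conj c.1 ((l.map (fun k : K => (⟨cj x k, hmem k⟩ : G))).prod : G).1 := by
      rw [MulAut.conj_apply]
      exact (congrArg Subtype.val hc').symm
    rw [h3, MulEquiv.orderOf_eq]
  rw [h1] at h2
  exact h _ (inC_prod l hl) (by rw [h2]; exact hsg)

theorem false_of_centralizer_inner_aux (C2 : ProdSt.{u}) (hK : ¬ IsMulCommutative K) {u g : K}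
    (hx : (orderOf u).Prime) (hsg : s ∣ orderOf g)
    (hc : Nat.card (centralizer ({g} : Set K)) ≤ m + 1) (h : FC s m (MulAut.conj u)) : False := by
  have hu1 : u ≠ 1 := by
    rintro rfl
    rw [orderOf_one] at hx
    exact Nat.not_prime_one hx
  have hcen : center K = ⊥ := by
    rcases (inferInstance : (center K).Normal).eq_bot_or_eq_top with h | h
    · exact h
    · exfalso
      apply hK
      exact ⟨⟨fun a b => (mem_center_iff.1 (by rw [h]; exact mem_top a) b).symm⟩⟩
  have hinj : Function.Injective (MulAut.conj : K →* MulAut K) := by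
    rw [← MonoidHom.ker_eq_bot_iff, eq_bot_iff, ← hcen]
    intro a ha
    rw [mem_center_iff]
    intro b
    have h1 : MulAut.conj a b = b := by
      rw [MonoidHom.mem_ker] at ha
      rw [ha]
      rfl
    rw [MulAut.conj_apply, mul_inv_eq_iff_eq_mul] at h1
    exact h1.symm
  obtain ⟨l, hl, hconj⟩ := exists_isConj_prod C2 (G := K) (fun k : K => k * u * k⁻¹)
    (fun g => ⟨Equiv.mulLeft g, fun k => by
      show g * k * u * (g * k)⁻¹ = _
      group⟩)
    (by
      have hN : (closure (Set.range fun k : K => k * u * k⁻¹)).Normal := by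
        refine ⟨fun n hn g => ?_⟩
        have h1 : (closure (Set.range fun k : K => k * u * k⁻¹)).map (MulAut.conj g).toMonoidHom ≤
            closure (Set.range fun k : K => k * u * k⁻¹) := by
          rw [MonoidHom.map_closure, closure_le]
          rintro _ ⟨_, ⟨k, rfl⟩, rfl⟩
          refine subset_closure ⟨g * k, ?_⟩
          show g * k * u * (g * k)⁻¹ = g * (k * u * k⁻¹) * g⁻¹
          group
        exact h1 ⟨n, hn, rfl⟩
      rcases hN.eq_bot_or_eq_top with h | h
      · exfalso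
        apply hu1
        rw [← mem_bot, ← h]
        exact subset_closure ⟨1, by simp⟩
      · exact h) hc
  have h1 : MulAut.conj (l.map (fun k : K => k * u * k⁻¹)).prod = (l.map (cj (MulAut.conj u))).prod := by
    rw [map_list_prod, List.map_map]
    congr 2
    funext k
    show MulAut.conj (k * u * k⁻¹) = cj (MulAut.conj u) k
    rw [cj_conj]
  refine h _ (inC_prod l hl) ?_
  rw [← h1, orderOf_injective _ hinj]
  obtain ⟨c, hc'⟩ := isConj_iff.1 hconj
  have h3 : g = MulAut.conj c (l.map (fun k : K => k * u * k⁻¹)).prod := by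
    rw [MulAut.conj_apply]
    exact hc'.symm
  rw [h3, MulEquiv.orderOf_eq] at hsg
  exact hsg

end Main

end Cfsg.Agent.H442.Pi
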